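import Cfsg.Agent.Bimonster54.Data.T3.Tab0
import Cfsg.Agent.Bimonster54.Data.T3.Tab1
import Cfsg.Agent.Bimonster54.Data.T3.Just0
import Cfsg.Agent.Bimonster54.Data.T3.Just1

/-!
Certificate data for the table `T3`.
-/

set_option autoImplicit false
set_option maxRecDepth 40000
set_option maxHeartbeats 0
set_option Elab.async false

namespace CfsgLib.Bimonster54.T3

/-- All justifications. -/
def cs : List ℕ := cs0 ++ (cs1 ++ (cs2 ++ (cs3 ++ (cs4 ++ (cs5 ++ (cs6 ++ (cs7 ++ (cs8 ++ (cs9 ++ (cs10 ++ (cs11 ++ (cs12 ++ (cs13 ++ (cs14 ++ (cs15 ++ (cs16))))))))))))))))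

theorem cs_ok : checkFrom S (2908 + 9) cs = true :=
  (checkFrom_glue cs0_ok (by decide +kernel) (checkFrom_glue cs1_ok (by decide +kernel) (checkFrom_glue cs2_ok (by decide +kernel) (checkFrom_glue cs3_ok (by decide +kernel) (checkFrom_glue cs4_ok (by decide +kernel) (checkFrom_glue cs5_ok (by decide +kernel) (checkFrom_glue cs6_ok (by decide +kernel) (checkFrom_glue cs7_ok (by decide +kernel) (checkFrom_glue cs8_ok (by decide +kernel) (checkFrom_glue cs9_ok (by decide +kernel) (checkFrom_glue cs10_ok (by decide +kernel) (checkFrom_glue cs11_ok (by decide +kernel) (checkFrom_glue cs12_ok (by decide +kernel) (checkFrom_glue cs13_ok (by decide +kernel) (checkFrom_glue cs14_ok (by decide +kernel) (checkFrom_glue cs15_ok (by decide +kernel) cs16_ok))))))))))))))))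

theorem base_ok : allFrom (baseAt S 2908 9) 0 (2908 + 9) = true := by decide +kernel

theorem tables_glue {a b : List (ℕ × ℕ)} (ha : tablesOK pal a it = true)
    (hb : tablesOK pal b it = true) : tablesOK pal (a ++ b) it = true := by
  simp only [tablesOK, List.all_append, Bool.and_eq_true] at ha hb ⊢
  exact ⟨⟨ha.1.1, ha.1.2, hb.1.2⟩, ha.2⟩

theorem tab_ok : tablesOK pal mt it = true :=
  (tables_glue tab0_ok (tables_glue tab1_ok (tables_glue tab2_ok (tables_glue tab3_ok (tables_glue tab4_ok (tables_glue tab5_ok (tables_glue tab6_ok (tables_glue tab7_ok (tables_glue tab8_ok (tables_glue tab9_ok (tables_glue tab10_ok (tables_glue tab11_ok (tables_glue tab12_ok (tables_glue tab13_ok (tables_glue tab14_ok tab15_ok)))))))))))))))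

theorem seed_ok : allFrom (seedPal S pal) 2908 9 = true := by decide +kernel

theorem cs_len : 2908 + 9 + cs.length = 9467 := by decide +kernel

theorem closed_ok : closedAt S (2908 + 9 + cs.length) 0 0x16c016be16bc16ba16b816c616c216c416b816c216ba16b816c616bc16ba16b816c216be16bc16ba16b816c616c416c216b816ba16bc16be16c016be16bc16ba16b816c216c416c616b816ba16bc16be16c216b816ba16bc16c616b816ba16c216b816c416c216c616b816ba16bc16be16c000010003000500070009000b000d172c00191774002d17ca00530071190019a6014d01c31e001f9e2414065908c32ece35bc0d350fcb104312191287128945424544475a1545160f49384841483b483c483e46d346cf46d04701146245d645e6158948061639163f167d16811699169d16b316b749f416b616b2169c16981680167c163e16384807158845e745d71463470046d146ce46d2483f483d483a48404939160e1544475b4545454312881286121810420fca0d3435bd2ecf08c2065824151f9f1e0101c2014c19a719010070005217cb002c17750018172d000c000a000800060004000200000ae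 0 [10, 4, 3, 2, 1, 0, 7, 5, 6, 0, 5, 1, 0, 7, 2, 1, 0, 5, 3, 2, 1, 0, 7, 6, 5, 0, 1, 2, 3, 4, 3, 2, 1, 0, 5, 6, 7, 0, 1, 2, 3, 5, 0, 1, 2, 7, 0, 1, 5, 0, 6, 5, 7, 0, 1, 2, 3, 4, 10, 4, 3, 2, 1, 0, 7, 5, 6, 0, 5, 1, 0, 7, 2, 1, 0, 5, 3, 2, 1, 0, 7, 6, 5, 0, 1, 2, 3, 4, 3, 2, 1, 0, 5, 6, 7, 0, 1, 2, 3, 5, 0, 1, 2, 7, 0, 1, 5, 0, 6, 5, 7, 0, 1, 2, 3, 4, 10, 4, 3, 2, 1, 0, 7, 5, 6, 0, 5, 1, 0, 7, 2, 1, 0, 5, 3, 2, 1, 0, 7, 6, 5, 0, 1, 2, 3, 4, 3, 2, 1, 0, 5, 6, 7, 0, 1, 2, 3, 5, 0, 1, 2, 7, 0, 1, 5, 0, 6, 5, 7, 0, 1, 2, 3, 4] = true := by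
  rw [cs_len]
  decide +kernel

/-- The product of the affine node and the highest reflection has order dividing three. -/
theorem identity {G : Type*} [Group G] {γ : ℕ → G} (hγ : ∀ x, γ x * γ x = 1)
    (hsame : ∀ a b : List ℕ, small a = true → small b = true → sameAct a b = true →
      evW γ a = evW γ b)
    (hrel : ∀ r ∈ rels, evW γ r = 1) :
    evW γ [10, 4, 3, 2, 1, 0, 7, 5, 6, 0, 5, 1, 0, 7, 2, 1, 0, 5, 3, 2, 1, 0, 7, 6, 5, 0, 1, 2, 3, 4, 3, 2, 1, 0, 5, 6, 7, 0, 1, 2, 3, 5, 0, 1, 2, 7, 0, 1, 5, 0, 6, 5, 7, 0, 1, 2, 3, 4, 10, 4, 3, 2, 1, 0, 7, 5, 6, 0, 5, 1, 0, 7, 2, 1, 0, 5, 3, 2, 1, 0, 7, 6, 5, 0, 1, 2, 3, 4, 3, 2, 1, 0, 5, 6, 7, 0, 1, 2, 3, 5, 0, 1, 2, 7, 0, 1, 5, 0, 6, 5, 7, 0, 1, 2, 3, 4, 10, 4, 3, 2, 1, 0, 7, 5, 6, 0, 5, 1, 0, 7, 2, 1, 0, 5, 3, 2, 1, 0, 7, 6, 5, 0, 1, 2, 3, 4, 3, 2, 1, 0, 5, 6, 7, 0, 1, 2, 3, 5, 0, 1, 2, 7, 0, 1, 5, 0, 6, 5,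 7, 0, 1, 2, 3, 4] = 1 := by
  have h := closed_word (S := S) (D := 2908) (ns := 9) (cs := cs) (k := 0) (d := 0) (W₀ := [10, 4, 3, 2, 1, 0, 7, 5, 6, 0, 5, 1, 0, 7, 2, 1, 0, 5, 3, 2, 1, 0, 7, 6, 5, 0, 1, 2, 3, 4, 3, 2, 1, 0, 5, 6, 7, 0, 1, 2, 3, 5, 0, 1, 2, 7, 0, 1, 5, 0, 6, 5, 7, 0, 1, 2, 3, 4, 10, 4, 3, 2, 1, 0, 7, 5, 6, 0, 5, 1, 0, 7, 2, 1, 0, 5, 3, 2, 1, 0, 7, 6, 5, 0, 1, 2, 3, 4, 3, 2, 1, 0, 5, 6, 7, 0, 1, 2, 3, 5, 0, 1, 2, 7, 0, 1, 5, 0, 6, 5, 7, 0, 1, 2, 3, 4, 10, 4, 3, 2, 1, 0, 7, 5, 6, 0, 5, 1, 0, 7, 2, 1, 0, 5, 3, 2, 1, 0, 7, 6, 5, 0, 1, 2, 3, 4, 3, 2, 1, 0, 5, 6, 7, 0, 1, 2, 3, 5, 0, 1, 2, 7, 0, 1, 5, 0, 6, 5, 7, 0, 1, 2, 3, 4])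
    rfl hγ hsame hrel tab_ok base_ok seed_ok cs_ok closed_ok
  simpa [nodeVal_zero, evW, pal] using h

end CfsgLib.Bimonster54.T3
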